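import Groth.Agent.RigDesc27.Fibred
import Groth.Agent.ThetaLib.CartData
import Groth.Agent.ThetaLib.Effective
import Groth.Agent.RigDesc27.Sections
import Groth.Agent.RigDesc27.Datum
import Groth.Agent.RigDesc27.InvFppf
import Groth.Agent.RigDesc27.Classes

/-!
# Invertible modules trivial fppf-locally on the base come from the base
-/

set_option autoImplicit false
set_option backward.isDefEq.respectTransparency.types false
set_option linter.style.haveILetI false
set_option linter.unusedSectionVars false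

universe u

open CategoryTheory CategoryTheory.Limits AlgebraicGeometry Opposite
open Pseudofunctor Bicategory
open Groth.Agent.RigDesc27

namespace Groth.Agent.FppfTriv8

variable {X S : Scheme.{u}} {f : X ⟶ S} {U V W : Over S}

/-- `X_V` as an `S`-scheme. -/
noncomputable abbrev Xo (f : X ⟶ S) (V : Over S) : Over S := Over.mk (PicF.XTproj f V ≫ V.hom)

/-- Its projection to `V`. -/
noncomputable abbrev πo (f : X ⟶ S) (V : Over S) : Xo f V ⟶ V := Over.homMk (PicF.XTproj f V) rfl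

/-- `X_g` as a morphism of `S`-schemes. -/
noncomputable abbrev Xg (f : X ⟶ S) (g : V ⟶ W) : Xo f V ⟶ Xo f W :=
  Over.homMk (PicF.XTmap f g) (by
    show PicF.XTmap f g ≫ PicF.XTproj f W ≫ W.hom = PicF.XTproj f V ≫ V.hom
    rw [← Category.assoc, XTmap_proj, Category.assoc, Over.w g])

theorem Xg_comp {Z : Over S} (g : V ⟶ W) (h : W ⟶ Z) : Xg f (g ≫ h) = Xg f g ≫ Xg f h :=
  Over.OverMorphism.ext (XTmap_comp g h)

theorem Xg_π (g : V ⟶ W) : Xg f g ≫ πo f W = πo f V ≫ g :=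
  Over.OverMorphism.ext (XTmap_proj g)

variable (f)

/-- `c` is the ratio of the two inverse images of the trivialisation `r`. -/
def IsRatio {L : X.Modules} (r : OV (Xo f U) ⟶ ThetaLib.modObj L) (g₁ g₂ : V ⟶ U) (c : Γ(V.left, ⊤)) : Prop :=
  og (Xg f g₁) ≫ r = ThetaLib.scal (OV (Xo f V)) ((PicF.XTproj f V).appTop c) ≫ og (Xg f g₂) ≫ r

variable {f} {L : X.Modules} (r : OV (Xo f U) ⟶ ThetaLib.modObj L)

theorem isRatio_pull {V' : Over S} (t : V' ⟶ V) {g₁ g₂ : V ⟶ U} {c : Γ(V.left, ⊤)} (h : IsRatio f r g₁ g₂ c) :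
    IsRatio f r (t ≫ g₁) (t ≫ g₂) (t.left.appTop c) := by
  rw [IsRatio, Xg_comp, Xg_comp, og_comp, og_comp, Category.assoc, Category.assoc, h, ← Category.assoc,
    ThetaLib.comp_scal, Category.assoc]
  refine congrArg (fun z => ThetaLib.scal (OV (Xo f V')) z ≫ og (Xg f t) ≫ og (Xg f g₂) ≫ r) ?_
  rw [og_base]
  show (PicF.XTmap f t).appTop ((PicF.XTproj f V).appTop c) = (PicF.XTproj f V').appTop (t.left.appTop c)
  rw [← CommRingCat.comp_apply, ← Scheme.Hom.comp_appTop, XTmap_proj, Scheme.Hom.comp_appTop, CommRingCat.comp_apply]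

theorem isRatio_self (g : V ⟶ U) : IsRatio f r g g 1 := by
  rw [IsRatio, map_one, ThetaLib.scal_one, Category.id_comp]

theorem isRatio_trans {g₁ g₂ g₃ : V ⟶ U} {c d : Γ(V.left, ⊤)} (h : IsRatio f r g₁ g₂ c)
    (h' : IsRatio f r g₂ g₃ d) : IsRatio f r g₁ g₃ (d * c) := by
  rw [IsRatio, h, h', ← Category.assoc, ThetaLib.scal_mul, map_mul]

variable [IsIso r.fiber]

theorem isRatio_unique (ha : ∀ (T : Over S) (O : T.left.Opens), IsIso ((PicF.XTproj f T).app O))
    {g₁ g₂ : V ⟶ U} {c d : Γ(V.left, ⊤)} (h : IsRatio f r g₁ g₂ c) (h' : IsRatio f r g₁ g₂ d) : c = d := by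
  haveI := ThetaLib.isIso_comp_fiber (og (Xg f g₂)) r
  exact (bijective_appTop ha V).1 (ThetaLib.scal_injective (a := OV (Xo f V)) isInvertible_OV
    (ThetaLib.hom_ext_of_fiber (og (Xg f g₂) ≫ r) rfl (h.symm.trans h')))

theorem exists_isRatio (ha : ∀ (T : Over S) (O : T.left.Opens), IsIso ((PicF.XTproj f T).app O))
    (hr : r.base = pullback.fst f U.hom) (g₁ g₂ : V ⟶ U) : ∃ c, IsRatio f r g₁ g₂ c := by
  haveI := ThetaLib.isIso_comp_fiber (og (Xg f g₂)) r
  obtain ⟨d, hd, hdc⟩ := ThetaLib.exists_lift_of_fiber (og (Xg f g₂) ≫ r) (og (Xg f g₁) ≫ r) (𝟙 _) (by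
    rw [CoGrothendieck.categoryStruct_comp_base, CoGrothendieck.categoryStruct_comp_base, og_base, og_base, hr,
      Category.id_comp]
    exact (XTmap_fst g₁).trans (XTmap_fst g₂).symm)
  obtain ⟨b, rfl⟩ := ThetaLib.exists_eq_scal isInvertible_OV d hd
  obtain ⟨c, rfl⟩ := (bijective_appTop ha V).2 b
  exact ⟨c, hdc.symm⟩

theorem exists_trivialisation {S' : Scheme.{u}} (h : S' ⟶ S) {L : X.Modules}
    (htriv : PicF.IsTrivialCl (PicF.pullCl (pullback.fst f h) (PicF.cl L)))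
    (hL : PicF.IsInvertible L) :
    ∃ r : OV (Xo f (Over.mk h)) ⟶ ThetaLib.modObj L, r.base = pullback.fst f h ∧ IsIso r.fiber := by
  have hs := PicLoc.isInvertible_pullback (pullback.fst f h) hL
  have hO := AmpleLib.isInvertible_structureModule (X := S)
  have h₁ : PicLib.PicM.of hs = 1 := PicLib.PicM.ext htriv
  have h₂ : PicLib.PicM.of (PicLoc.isInvertible_pullback (Xo f (Over.mk h)).hom hO) = 1 := by
    rw [← PicLib.PicM.pull_of (Xo f (Over.mk h)).hom hO, PicLib.PicM.of_structureModule, map_one]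
  obtain ⟨e⟩ := (PicLib.PicM.of_eq_iff (PicLoc.isInvertible_pullback (Xo f (Over.mk h)).hom hO) hs).1
    (h₂.trans h₁.symm)
  exact ⟨⟨pullback.fst f h, e.hom⟩, rfl, e.isIso_hom⟩

set_option backward.defeqAttrib.useBackward true in
set_option backward.isDefEq.respectTransparency false in
theorem ι_comp_cart_cart {𝒮 : Type*} [Category 𝒮] {F : LocallyDiscrete 𝒮ᵒᵖ ⥤ᵖ Cat} {Y Y' Z : 𝒮}
    (M : F.obj ⟨op Z⟩) (p : Y ⟶ Z) (g : Y' ⟶ Y) (q : Y' ⟶ Z) (h : g ≫ p = q) :
    (CoGrothendieck.ι F Y').map ((F.mapComp' p.op.toLoc g.op.toLoc q.op.toLoc (by rw [← h]; rfl)).hom.toNatTrans.app M) ≫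
      CoGrothendieck.cartesianLift ((F.map p.op.toLoc).toFunctor.obj M) g ≫ CoGrothendieck.cartesianLift M p =
      CoGrothendieck.cartesianLift M q := by
  subst h
  rw [← ThetaLib.pullMap_comp_cart M p g, ← Category.assoc]
  refine congrArg (· ≫ CoGrothendieck.cartesianLift M p) (Eq.trans ?_ (ThetaLib.factor (ThetaLib.pullMap M p g)))
  refine congrArg (fun z => (CoGrothendieck.ι F Y').map z ≫ _) ?_
  simp [ThetaLib.pullMap, Pseudofunctor.mapComp']

end Groth.Agent.FppfTriv8
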