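import Groth.Agent.FppfTriv8.Basic

/-!
# Effective fppf descent of invertible modules, with its comparison morphism
-/

set_option autoImplicit false
set_option backward.isDefEq.respectTransparency.types false
set_option linter.style.haveILetI false
set_option linter.unusedSectionVars false

universe u

open CategoryTheory CategoryTheory.Limits AlgebraicGeometry Opposite
open Pseudofunctor Bicategory
open Groth.Agent.RigDesc27

namespace Groth.Agent.FppfTriv8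

/-- A compatible family `Θ f₁ f₂ : (Y, f₁^* L) ⟶ (X, L)` over `f₂` descends `L` to an invertible `N` with a
morphism `(X, L) ⟶ (S, N)` equalizing `Θ` and the cartesian lift. -/
theorem exists_descent {X S : Scheme.{u}} (f : X ⟶ S) [Flat f] [Surjective f] [LocallyOfFinitePresentation f]
    {L : X.Modules} (hL : PicF.IsInvertible L)
    (Θ : ∀ ⦃Y : Scheme.{u}⦄ (f₁ f₂ : Y ⟶ X), f₁ ≫ f = f₂ ≫ f → (dom L f₁ ⟶ ThetaLib.modObj L))
    (hb : ∀ ⦃Y : Scheme.{u}⦄ (f₁ f₂ : Y ⟶ X) h, (Θ f₁ f₂ h).base = f₂)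
    (hnat : ∀ ⦃Y Y' : Scheme.{u}⦄ (g : Y' ⟶ Y) (f₁ f₂ : Y ⟶ X) h h',
      ThetaLib.pullMap (F := ThetaGrp.modPF.{u}) L f₁ g ≫ Θ f₁ f₂ h = Θ (g ≫ f₁) (g ≫ f₂) h')
    (hself : ∀ ⦃Y : Scheme.{u}⦄ (p : Y ⟶ X) h, Θ p p h = cart L p)
    (hcomp : ∀ ⦃Y : Scheme.{u}⦄ (f₁ f₂ f₃ : Y ⟶ X) h₁₂ h₂₃ h₁₃
      (ψ : (ThetaGrp.modPF.{u}.map f₁.op.toLoc).toFunctor.obj L ⟶ (ThetaGrp.modPF.{u}.map f₂.op.toLoc).toFunctor.obj L),
      vert ψ ≫ cart L f₂ = Θ f₁ f₂ h₁₂ → vert ψ ≫ Θ f₂ f₃ h₂₃ = Θ f₁ f₃ h₁₃) :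
    ∃ (N : S.Modules) (_ : PicF.IsInvertible N) (μ : ThetaLib.modObj L ⟶ ThetaLib.modObj N),
      μ.base = f ∧ IsIso μ.fiber ∧
        ∀ ⦃Y : Scheme.{u}⦄ (f₁ f₂ : Y ⟶ X) h, Θ f₁ f₂ h ≫ μ = cart L f₁ ≫ μ := by
  have hex : ∀ ⦃Y : Scheme.{u}⦄ (f₁ f₂ : Y ⟶ X) (h : f₁ ≫ f = f₂ ≫ f),
      ∃ φ : (ThetaGrp.modPF.{u}.map f₁.op.toLoc).toFunctor.obj L ⟶ (ThetaGrp.modPF.{u}.map f₂.op.toLoc).toFunctor.obj L,
        Θ f₁ f₂ h = mkOver f₂ φ := by
    intro Y f₁ f₂ h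
    obtain ⟨φ, hφ⟩ := exists_eq_mkOver (F := ThetaGrp.modPF.{u}) (Θ f₁ f₂ h) (hb f₁ f₂ h)
    exact ⟨φ, hφ⟩
  choose θ hθ using hex
  let D : Desc.modPF.{u}.DescentData (fun _ : PUnit.{u + 1} => f) :=
    { obj := fun _ => L
      hom := fun Y q i₁ i₂ f₁ f₂ h₁ h₂ => θ f₁ f₂ (h₁.trans h₂.symm)
      pullHom_hom := by
        intro Y' Y g q q' hq i₁ i₂ f₁ f₂ h₁ h₂ gf₁ gf₂ e₁ e₂
        subst e₁ e₂
        have h' : (g ≫ f₁) ≫ f = (g ≫ f₂) ≫ f := by rw [Category.assoc, Category.assoc, h₁, h₂]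
        refine over_injective (F := ThetaGrp.modPF.{u}) ?_
        refine Eq.trans ?_ ((hnat g f₁ f₂ (h₁.trans h₂.symm) h').trans (hθ _ _ _))
        rw [hθ]
        exact (ThetaLib.pullMap_comp_hom (F := ThetaGrp.modPF.{u}) L g (θ f₁ f₂ (h₁.trans h₂.symm))).symm
      hom_self := by
        intro Y q i p hp
        refine over_injective (F := ThetaGrp.modPF.{u}) ((hθ _ _ _).symm.trans ((hself p _).trans ?_))
        exact (over_self (F := ThetaGrp.modPF.{u}) (M := L) p).symm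
      hom_comp := by
        intro Y q i₁ i₂ i₃ f₁ f₂ f₃ h₁ h₂ h₃
        refine over_injective (F := ThetaGrp.modPF.{u}) (Eq.trans ?_ (hθ f₁ f₃ (h₁.trans h₃.symm)))
        refine Eq.trans ?_ (hcomp f₁ f₂ f₃ (h₁.trans h₂.symm) (h₂.trans h₃.symm) (h₁.trans h₃.symm)
          (θ f₁ f₂ (h₁.trans h₂.symm)) ?_)
        · rw [hθ f₂ f₃ (h₂.trans h₃.symm)]
          exact (vert_comp_over (F := ThetaGrp.modPF.{u}) _ _).symm
        · rw [hθ]
          exact (over_eq_vert_comp (F := ThetaGrp.modPF.{u}) (θ f₁ f₂ (h₁.trans h₂.symm))).symm }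
  have hcov : Desc19b.QDesc.Cov (fun _ : PUnit.{u + 1} => f) :=
    Desc19b.QDesc.cov_of_fpqc _ (ThetaLib.mem_fpqc_single f)
  haveI : ∀ i, Coh.IsQCoh (Desc19b.QDesc.ob D i) := fun _ => AmpleLib.isQCoh_of_isInvertible hL
  haveI := Desc19b.QDesc.isQCoh_descended D hcov
  haveI hei := Desc19b.QDesc.isIso_counit' D hcov PUnit.unit
  let N := Desc19b.QDesc.descended D
  let P : X.Modules := (Scheme.Modules.pullback f).obj N
  let ee : P ≅ L := @asIso _ _ _ _ (Desc19b.QDesc.counit' D PUnit.unit) hei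
  refine ⟨N, isInvertible_of_fppf f N (KLLib.isInvertible_of_iso ee.symm hL), vert ee.inv ≫ cart N f, ?_, ?_, ?_⟩
  · exact Category.id_comp f
  · haveI : IsIso (vert ee.inv).fiber := isIso_vert_fiber ee.symm
    haveI : IsIso (cart N f).fiber := isIso_cart_fiber N f
    exact @ThetaLib.isIso_comp_fiber _ _ ThetaGrp.modPF.{u} _ _ _ (vert ee.inv) (cart N f)
      (isIso_vert_fiber ee.symm) (isIso_cart_fiber N f)
  · intro Y f₁ f₂ h
    let p₁ := (ThetaGrp.modPF.{u}.map f₁.op.toLoc).toFunctor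
    let p₂ := (ThetaGrp.modPF.{u}.map f₂.op.toLoc).toFunctor
    haveI : IsIso (p₁.map ee.hom) := Functor.map_isIso _ _
    haveI : IsIso (vert (p₁.map ee.hom)) := Functor.map_isIso _ _
    refine (cancel_epi (vert (p₁.map ee.hom))).1 ?_
    let can := Desc19b.QDesc.mcI f f₁ (f₁ ≫ f) rfl N ≫ Desc19b.QDesc.mcH f f₂ (f₁ ≫ f) h.symm N
    have hc : p₁.map ee.hom ≫ θ f₁ f₂ h = can ≫ p₂.map ee.hom :=
      Desc19b.QDesc.counit'_comm D (i := PUnit.unit) (j := PUnit.unit) (f₁ ≫ f) f₁ f₂ rfl h.symm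
    have hL₁ : vert (p₁.map ee.hom) ≫ cart L f₁ = cart P f₁ ≫ vert ee.hom :=
      (ThetaLib.ι_comp_mk (F := ThetaGrp.modPF.{u}) (S := Y) (c := ThetaLib.modObj L) (p₁.map ee.hom) f₁ (𝟙 _)).trans
        ((congrArg (ThetaLib.homOver (F := ThetaGrp.modPF.{u}) f₁) (Category.comp_id (p₁.map ee.hom))).trans
          (ThetaLib.cartesianLift_comp_ι (F := ThetaGrp.modPF.{u}) f₁ ee.hom).symm)
    have he : vert ee.hom ≫ vert ee.inv = 𝟙 (ThetaLib.modObj P) :=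
      (((CoGrothendieck.ι ThetaGrp.modPF.{u} X).map_comp ee.hom ee.inv).symm.trans
        (congrArg (fun z => (CoGrothendieck.ι ThetaGrp.modPF.{u} X).map z) ee.hom_inv_id)).trans
        ((CoGrothendieck.ι ThetaGrp.modPF.{u} X).map_id P)
    have he' : ∀ {Z : CoGrothendieck ThetaGrp.modPF.{u}} (z : ThetaLib.modObj P ⟶ Z),
        vert ee.hom ≫ vert ee.inv ≫ z = z := fun z =>
      (Category.assoc _ _ _).symm.trans ((congrArg (· ≫ z) he).trans (Category.id_comp z))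
    let μ := vert ee.inv ≫ cart N f
    have hR : vert (p₁.map ee.hom) ≫ Θ f₁ f₂ h = vert can ≫ cart P f₂ ≫ vert ee.hom :=
      ((congrArg (vert (p₁.map ee.hom) ≫ ·) (hθ f₁ f₂ h)).trans
        ((ThetaLib.ι_comp_mk (F := ThetaGrp.modPF.{u}) (S := Y) (c := ThetaLib.modObj L) (p₁.map ee.hom) f₂
          (θ f₁ f₂ h)).trans (congrArg (CoGrothendieck.Hom.mk (X := ⟨Y, p₁.obj P⟩) (Y := ThetaLib.modObj L) f₂) hc))).trans
      ((ThetaLib.ι_comp_mk (F := ThetaGrp.modPF.{u}) (S := Y) (c := ThetaLib.modObj L) can f₂ (p₂.map ee.hom)).symm.trans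
        (congrArg (vert can ≫ ·)
          (ThetaLib.cartesianLift_comp_ι (F := ThetaGrp.modPF.{u}) (M := P) (N := L) f₂ ee.hom).symm))
    have eA : vert (p₁.map ee.hom) ≫ cart L f₁ ≫ μ = cart P f₁ ≫ cart N f :=
      (Category.assoc _ _ _).symm.trans ((congrArg (· ≫ μ) hL₁).trans
        ((Category.assoc _ _ _).trans (congrArg (cart P f₁ ≫ ·) (he' _))))
    have eB : vert (p₁.map ee.hom) ≫ Θ f₁ f₂ h ≫ μ = vert can ≫ cart P f₂ ≫ cart N f :=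
      (Category.assoc _ _ _).symm.trans ((congrArg (· ≫ μ) hR).trans
        ((Category.assoc _ _ _).trans (congrArg (vert can ≫ ·)
          ((Category.assoc _ _ _).trans (congrArg (cart P f₂ ≫ ·) (he' _))))))
    refine eB.trans (Eq.trans ?_ eA.symm)
    have h₁ := ι_comp_cart_cart (F := ThetaGrp.modPF.{u}) N f f₁ (f₁ ≫ f) rfl
    have h₂ := ι_comp_cart_cart (F := ThetaGrp.modPF.{u}) N f f₂ (f₁ ≫ f) h.symm
    have hm : IsIso (Desc19b.QDesc.mcH f f₁ (f₁ ≫ f) rfl N) :=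
      ⟨Desc19b.QDesc.mcI f f₁ (f₁ ≫ f) rfl N, Desc19b.QDesc.mcH_mcI _ _ _ _ _, Desc19b.QDesc.mcI_mcH _ _ _ _ _⟩
    have hv : IsIso (vert (Desc19b.QDesc.mcH f f₁ (f₁ ≫ f) rfl N)) := @Functor.map_isIso _ _ _ _ _ _ _ _ hm
    refine (@cancel_epi _ _ _ _ _ (vert (Desc19b.QDesc.mcH f f₁ (f₁ ≫ f) rfl N))
      (@IsIso.epi_of_iso _ _ _ _ _ hv) _ _).1 ?_
    refine ((Category.assoc _ _ _).symm.trans ((congrArg (· ≫ cart P f₂ ≫ cart N f) ?_).trans h₂)).trans h₁.symm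
    exact ((CoGrothendieck.ι ThetaGrp.modPF.{u} Y).map_comp _ can).symm.trans
      (congrArg (fun z => (CoGrothendieck.ι ThetaGrp.modPF.{u} Y).map z)
        (Desc19b.QDesc.mcH_mcI_assoc f f₁ (f₁ ≫ f) rfl N (Desc19b.QDesc.mcH f f₂ (f₁ ≫ f) h.symm N)))

end Groth.Agent.FppfTriv8
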