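import Groth.Agent.FppfTriv8.Descent

/-!
# Trivial after fppf base change implies pulled back from the base
-/

set_option autoImplicit false
set_option backward.isDefEq.respectTransparency.types false
set_option linter.style.haveILetI false
set_option linter.unusedSectionVars false

universe u

open CategoryTheory CategoryTheory.Limits AlgebraicGeometry Opposite
open Pseudofunctor Bicategory
open Groth.Agent.RigDesc27

namespace Groth.Agent.FppfTriv8

variable {X S : Scheme.{u}} {f : X ⟶ S} {U V : Over S} {L : X.Modules} {r : OV (Xo f U) ⟶ ThetaLib.modObj L}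

/-- `Θ a b` lifts `c(a,b) • a^*` through the trivial module of `U`. -/
def IsFamily (f : X ⟶ S) (r : OV (Xo f U) ⟶ ThetaLib.modObj L)
    (Θ : ∀ ⦃Y : Scheme.{u}⦄ (a b : Y ⟶ U.left), a ≫ U.hom = b ≫ U.hom → (dom (OV U).fiber a ⟶ OV U)) : Prop :=
  ∀ ⦃Y : Scheme.{u}⦄ (a b : Y ⟶ U.left) h, (Θ a b h).base = b ∧
    ∀ (g₁ g₂ : Over.mk (a ≫ U.hom) ⟶ U), g₁.left = a → g₂.left = b →
      ∃ c : Γ(Y, ⊤), IsRatio f r g₁ g₂ c ∧
        Θ a b h ≫ cart (Coh.structureModule S) U.hom =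
          ThetaLib.scal (dom (OV U).fiber a) c ≫ cart (OV U).fiber a ≫ cart (Coh.structureModule S) U.hom

theorem exists_family [IsIso r.fiber] (ha : ∀ (T : Over S) (O : T.left.Opens), IsIso ((PicF.XTproj f T).app O))
    (hr : r.base = pullback.fst f U.hom) :
    ∃ Θ, IsFamily f r Θ := by
  have key : ∀ (Y : Scheme.{u}) (a b : Y ⟶ U.left) (h : a ≫ U.hom = b ≫ U.hom),
      ∃ c : Γ(Y, ⊤), IsRatio f r (Over.homMk a rfl : Over.mk (a ≫ U.hom) ⟶ U) (Over.homMk b h.symm) c :=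
    fun Y a b h => exists_isRatio (V := Over.mk (a ≫ U.hom)) r ha hr _ _
  choose c hc using key
  have key2 : ∀ (Y : Scheme.{u}) (a b : Y ⟶ U.left) (h : a ≫ U.hom = b ≫ U.hom),
      ∃ θ : dom (OV U).fiber a ⟶ OV U, θ.base = b ∧ θ ≫ cart (Coh.structureModule S) U.hom =
        ThetaLib.scal (dom (OV U).fiber a) (c Y a b h) ≫ cart (OV U).fiber a ≫ cart (Coh.structureModule S) U.hom :=
    fun Y a b h => ThetaLib.exists_lift_of_fiber (cart (Coh.structureModule S) U.hom)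
      (ThetaLib.scal (dom (OV U).fiber a) (c Y a b h) ≫ cart (OV U).fiber a ≫ cart (Coh.structureModule S) U.hom) b (by
      show 𝟙 Y ≫ a ≫ U.hom = b ≫ U.hom
      exact (Category.id_comp _).trans h)
  choose θ hθb hθ using key2
  refine ⟨fun Y a b h => θ Y a b h, fun Y a b h => ⟨hθb Y a b h, fun g₁ g₂ e₁ e₂ => ⟨c Y a b h, ?_, hθ Y a b h⟩⟩⟩
  have h₁ : g₁ = Over.homMk a rfl := Over.OverMorphism.ext e₁
  have h₂ : g₂ = Over.homMk b h.symm := Over.OverMorphism.ext e₂
  rw [h₁, h₂]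
  exact hc Y a b h

section

variable {Θ : ∀ ⦃Y : Scheme.{u}⦄ (a b : Y ⟶ U.left), a ≫ U.hom = b ≫ U.hom → (dom (OV U).fiber a ⟶ OV U)}
  [IsIso r.fiber] (ha : ∀ (T : Over S) (O : T.left.Opens), IsIso ((PicF.XTproj f T).app O)) (hΘ : IsFamily f r Θ)
include ha hΘ

theorem family_nat ⦃Y Y' : Scheme.{u}⦄ (g : Y' ⟶ Y) (a b : Y ⟶ U.left) h₁ h₂ :
    ThetaLib.pullMap (F := ThetaGrp.modPF.{u}) (OV U).fiber a g ≫ Θ a b h₁ = Θ (g ≫ a) (g ≫ b) h₂ := by
  obtain ⟨c, hc, hcθ⟩ := (hΘ a b h₁).2 (Over.homMk a rfl) (Over.homMk b h₁.symm) rfl rfl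
  obtain ⟨c', hc', hcθ'⟩ := (hΘ (g ≫ a) (g ≫ b) h₂).2 (Over.homMk (g ≫ a) rfl) (Over.homMk (g ≫ b) h₂.symm) rfl rfl
  let t : Over.mk ((g ≫ a) ≫ U.hom) ⟶ Over.mk (a ≫ U.hom) := Over.homMk g (Category.assoc _ _ _).symm
  have hc'' := isRatio_pull r t hc
  rw [show t ≫ Over.homMk a rfl = Over.homMk (g ≫ a) rfl from Over.OverMorphism.ext rfl,
    show t ≫ Over.homMk b h₁.symm = Over.homMk (g ≫ b) h₂.symm from Over.OverMorphism.ext rfl] at hc''
  have e : g.appTop c = c' := isRatio_unique (V := Over.mk ((g ≫ a) ≫ U.hom)) r ha hc'' hc'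
  refine ThetaLib.hom_ext_of_fiber (cart (Coh.structureModule S) U.hom) ?_ ?_
  · rw [CoGrothendieck.categoryStruct_comp_base, (hΘ _ _ _).1, (hΘ _ _ _).1]
  · let pm := ThetaLib.pullMap (F := ThetaGrp.modPF.{u}) (OV U).fiber a g
    let cS := cart (Coh.structureModule S) U.hom
    have h3 : pm ≫ ThetaLib.scal (dom (OV U).fiber a) c = ThetaLib.scal (dom (OV U).fiber (g ≫ a)) (g.appTop c) ≫ pm :=
      ThetaLib.comp_scal pm c
    have h4 : pm ≫ cart (OV U).fiber a = cart (OV U).fiber (g ≫ a) :=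
      ThetaLib.pullMap_comp_cart (F := ThetaGrp.modPF.{u}) (OV U).fiber a g
    calc (pm ≫ Θ a b h₁) ≫ cS = pm ≫ ThetaLib.scal (dom (OV U).fiber a) c ≫ cart (OV U).fiber a ≫ cS :=
          (Category.assoc _ _ _).trans (congrArg (pm ≫ ·) hcθ)
      _ = ThetaLib.scal (dom (OV U).fiber (g ≫ a)) (g.appTop c) ≫ pm ≫ cart (OV U).fiber a ≫ cS :=
          (Category.assoc _ _ _).symm.trans ((congrArg (· ≫ cart (OV U).fiber a ≫ cS) h3).trans (Category.assoc _ _ _))
      _ = ThetaLib.scal (dom (OV U).fiber (g ≫ a)) c' ≫ cart (OV U).fiber (g ≫ a) ≫ cS := by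
          rw [e]
          exact congrArg (ThetaLib.scal (dom (OV U).fiber (g ≫ a)) c' ≫ ·) ((Category.assoc _ _ _).symm.trans (congrArg (· ≫ cS) h4))
      _ = Θ (g ≫ a) (g ≫ b) h₂ ≫ cS := hcθ'.symm

theorem family_self ⦃Y : Scheme.{u}⦄ (p : Y ⟶ U.left) h₁ : Θ p p h₁ = cart (OV U).fiber p := by
  obtain ⟨c, hc, hcθ⟩ := (hΘ p p h₁).2 (Over.homMk p rfl) (Over.homMk p rfl) rfl rfl
  have h1 : IsRatio f r (Over.homMk p rfl : Over.mk (p ≫ U.hom) ⟶ U) (Over.homMk p rfl)
      (1 : Γ((Over.mk (p ≫ U.hom) : Over S).left, ⊤)) :=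
    isRatio_self r _
  have e : c = (1 : Γ(Y, ⊤)) := isRatio_unique (V := Over.mk (p ≫ U.hom)) r ha hc h1
  refine ThetaLib.hom_ext_of_fiber (cart (Coh.structureModule S) U.hom) (hΘ _ _ _).1 ?_
  rw [hcθ, e]
  exact (congrArg (· ≫ cart (OV U).fiber p ≫ cart (Coh.structureModule S) U.hom)
    (ThetaLib.scal_one (dom (OV U).fiber p))).trans (Category.id_comp _)

theorem family_comp ⦃Y : Scheme.{u}⦄ (a b c : Y ⟶ U.left) h₁₂ h₂₃ h₁₃
    (ψ : (ThetaGrp.modPF.{u}.map a.op.toLoc).toFunctor.obj (OV U).fiber ⟶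
      (ThetaGrp.modPF.{u}.map b.op.toLoc).toFunctor.obj (OV U).fiber)
    (hψ : vert ψ ≫ cart (OV U).fiber b = Θ a b h₁₂) : vert ψ ≫ Θ b c h₂₃ = Θ a c h₁₃ := by
  let ga : Over.mk (a ≫ U.hom) ⟶ U := Over.homMk a rfl
  let gb : Over.mk (a ≫ U.hom) ⟶ U := Over.homMk b h₁₂.symm
  let gc : Over.mk (a ≫ U.hom) ⟶ U := Over.homMk c h₁₃.symm
  obtain ⟨c₁, hc₁, hθ₁⟩ := (hΘ a b h₁₂).2 ga gb rfl rfl
  obtain ⟨c₂, hc₂, hθ₂⟩ := (hΘ b c h₂₃).2 (Over.homMk b rfl) (Over.homMk c h₂₃.symm) rfl rfl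
  obtain ⟨c₃, hc₃, hθ₃⟩ := (hΘ a c h₁₃).2 ga gc rfl rfl
  let t : Over.mk (a ≫ U.hom) ⟶ Over.mk (b ≫ U.hom) := Over.homMk (𝟙 Y) ((Category.id_comp _).trans h₁₂.symm)
  have hc₂' : IsRatio f r gb gc c₂ := by
    have := isRatio_pull r t hc₂
    rw [show t ≫ Over.homMk b rfl = gb from Over.OverMorphism.ext (Category.id_comp b),
      show t ≫ Over.homMk c h₂₃.symm = gc from Over.OverMorphism.ext (Category.id_comp c)] at this
    simpa [t] using this
  obtain rfl : c₂ * c₁ = c₃ := isRatio_unique (V := Over.mk (a ≫ U.hom)) r ha (isRatio_trans r hc₁ hc₂') hc₃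
  refine ThetaLib.hom_ext_of_fiber (cart (Coh.structureModule S) U.hom) ?_ ?_
  · rw [CoGrothendieck.categoryStruct_comp_base, (hΘ _ _ _).1, (hΘ _ _ _).1]
    exact Category.id_comp _
  · calc (vert ψ ≫ Θ b c h₂₃) ≫ (cart (Coh.structureModule S) U.hom) = vert ψ ≫ ThetaLib.scal _ c₂ ≫ cart (OV U).fiber b ≫ (cart (Coh.structureModule S) U.hom) :=
          (Category.assoc _ _ _).trans (congrArg (vert ψ ≫ ·) hθ₂)
      _ = ThetaLib.scal _ ((vert ψ).base.appTop c₂) ≫ vert ψ ≫ cart (OV U).fiber b ≫ (cart (Coh.structureModule S) U.hom) :=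
          (Category.assoc _ _ _).symm.trans ((congrArg (· ≫ cart (OV U).fiber b ≫ (cart (Coh.structureModule S) U.hom))
            (ThetaLib.comp_scal (vert ψ) c₂)).trans (Category.assoc _ _ _))
      _ = ThetaLib.scal (dom (OV U).fiber a) c₂ ≫ Θ a b h₁₂ ≫ (cart (Coh.structureModule S) U.hom) :=
          congrArg (ThetaLib.scal (dom (OV U).fiber a) c₂ ≫ ·)
            ((Category.assoc _ _ _).symm.trans (congrArg (· ≫ (cart (Coh.structureModule S) U.hom)) hψ))
      _ = ThetaLib.scal (dom (OV U).fiber a) (c₂ * c₁) ≫ cart (OV U).fiber a ≫ (cart (Coh.structureModule S) U.hom) := by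
          rw [hθ₁, ← Category.assoc, ThetaLib.scal_mul, mul_comm]
      _ = Θ a c h₁₃ ≫ (cart (Coh.structureModule S) U.hom) := hθ₃.symm

theorem og_comp_desc {N : S.Modules} (μ : ThetaLib.modObj (OV U).fiber ⟶ ThetaLib.modObj N)
    (hμ : ∀ ⦃Y : Scheme.{u}⦄ (a b : Y ⟶ U.left) h, Θ a b h ≫ μ = cart (OV U).fiber a ≫ μ) {V : Over S}
    (g₁ g₂ : V ⟶ U) (c : Γ(V.left, ⊤)) (hc : IsRatio f r g₁ g₂ c) :
    og g₁ ≫ μ = ThetaLib.scal (OV V) c ≫ og g₂ ≫ μ := by
  have hw : g₁.left ≫ U.hom = g₂.left ≫ U.hom := (Over.w g₁).trans (Over.w g₂).symm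
  let t : V ⟶ Over.mk (g₁.left ≫ U.hom) := Over.homMk (𝟙 V.left) ((Category.id_comp _).trans (Over.w g₁))
  obtain ⟨d, hd, hdθ⟩ := (hΘ g₁.left g₂.left hw).2 (Over.homMk g₁.left rfl) (Over.homMk g₂.left hw.symm) rfl rfl
  have hd' := isRatio_pull r t hd
  rw [show t ≫ Over.homMk g₁.left rfl = g₁ from Over.OverMorphism.ext (Category.id_comp _),
      show t ≫ Over.homMk g₂.left hw.symm = g₂ from Over.OverMorphism.ext (Category.id_comp _)] at hd'
  obtain rfl : c = d := isRatio_unique (V := V) r ha hc (by simpa [t] using hd')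
  obtain ⟨θ, hθb, hθ⟩ := ThetaLib.exists_lift_of_fiber (cart (OV U).fiber g₁.left) (og g₁) (𝟙 _)
    ((og_base g₁).trans (Category.id_comp _).symm)
  have h₁ : θ ≫ Θ g₁.left g₂.left hw = ThetaLib.scal (OV V) c ≫ og g₂ := by
    refine ThetaLib.hom_ext_of_fiber (cart (Coh.structureModule S) U.hom) ?_ ?_
    · rw [CoGrothendieck.categoryStruct_comp_base, CoGrothendieck.categoryStruct_comp_base, hθb, (hΘ _ _ _).1, og_base]
      rfl
    · rw [Category.assoc, hdθ, ← Category.assoc, ThetaLib.comp_scal, hθb, Category.assoc, ← Category.assoc θ, hθ,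
        og_cart, Category.assoc, og_cart]
      simp
  rw [← hθ, Category.assoc, ← hμ _ _ hw, ← Category.assoc, h₁, Category.assoc]

end

theorem exists_invertible_pullback_iso (f : X ⟶ S)
    (ha : ∀ (T : Over S) (O : T.left.Opens), IsIso ((PicF.XTproj f T).app O)) (L : X.Modules)
    (hL : PicF.IsInvertible L) {S' : Scheme.{u}} (h : S' ⟶ S) [Flat h] [LocallyOfFinitePresentation h] [Surjective h]
    (htriv : PicF.IsTrivialCl (PicF.pullCl (pullback.fst f h) (PicF.cl L))) :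
    ∃ N : S.Modules, PicF.IsInvertible N ∧ Nonempty (L ≅ (Scheme.Modules.pullback f).obj N) := by
  let U : Over S := Over.mk h
  obtain ⟨r, hr, hri⟩ := exists_trivialisation h htriv hL
  obtain ⟨Θ, hΘ⟩ := exists_family (f := f) (U := U) (r := r) ha hr
  -- the cocycle identities
  haveI : Flat U.hom := ‹Flat h›
  haveI : Surjective U.hom := ‹Surjective h›
  haveI : LocallyOfFinitePresentation U.hom := ‹LocallyOfFinitePresentation h›
  obtain ⟨N, hN, μ, hμb, hμi, hμ⟩ := exists_descent U.hom (L := (OV U).fiber) isInvertible_OV Θ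
    (fun Y a b h => (hΘ a b h).1) (family_nat ha hΘ) (family_self ha hΘ) (family_comp ha hΘ)
  -- comparison along `og`
  -- the morphism to `f^* N`
  let A : X.Modules := (Scheme.Modules.pullback f).obj N
  have hA : PicF.IsInvertible A := PicLoc.isInvertible_pullback f hN
  haveI : IsIso μ.fiber := hμi
  haveI : IsIso (og (πo f U) ≫ μ).fiber := ThetaLib.isIso_comp_fiber _ _
  haveI hcN : IsIso (cart N f).fiber := isIso_cart_fiber N f
  obtain ⟨F, hFb, hF⟩ := @ThetaLib.exists_lift_of_fiber _ _ ThetaGrp.modPF.{u} (ThetaLib.modObj A) (ThetaLib.modObj N) _ (cart N f) hcN (og (πo f U) ≫ μ)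
    (pullback.fst f h) (by
      rw [CoGrothendieck.categoryStruct_comp_base, og_base, hμb]
      exact (pullback.condition (f := f) (g := h)).symm)
  haveI hFi : IsIso F.fiber :=
    @ThetaLib.isIso_fiber_of_comp _ _ ThetaGrp.modPF.{u} _ _ _ F (cart N f) hcN (by rw [hF]; infer_instance)
  haveI : Flat F.base := hFb ▸ inferInstance
  haveI : Surjective F.base := hFb ▸ inferInstance
  haveI : LocallyOfFinitePresentation F.base := hFb ▸ inferInstance
  obtain ⟨ψ, hψb, hψ⟩ := ThetaLib.exists_descend F (b := ThetaLib.modObj A) (c := ThetaLib.modObj L) hA hL r (𝟙 X)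
    (by rw [hr, hFb]; exact (Category.comp_id _).symm) (fun e π₁ π₂ hπ => by
      have hq : π₁.base ≫ pullback.fst f h = π₂.base ≫ pullback.fst f h := by
        have h1 := congrArg (fun t => t.base) hπ
        simpa only [CoGrothendieck.categoryStruct_comp_base, hFb] using h1
      have hw : π₁.base ≫ PicF.XTproj f U ≫ h = π₂.base ≫ PicF.XTproj f U ≫ h := by
        calc π₁.base ≫ PicF.XTproj f U ≫ h = π₁.base ≫ pullback.fst f h ≫ f :=
              congrArg (π₁.base ≫ ·) (pullback.condition (f := f) (g := h)).symm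
          _ = π₂.base ≫ pullback.fst f h ≫ f :=
              (Category.assoc _ _ _).symm.trans ((congrArg (· ≫ f) hq).trans (Category.assoc _ _ _))
          _ = π₂.base ≫ PicF.XTproj f U ≫ h := congrArg (π₂.base ≫ ·) (pullback.condition (f := f) (g := h))
      let Vy : Over S := Over.mk (π₁.base ≫ PicF.XTproj f U ≫ h)
      let g₁ : Vy ⟶ U := Over.homMk (π₁.base ≫ PicF.XTproj f U) (Category.assoc _ _ _)
      let g₂ : Vy ⟶ U := Over.homMk (π₂.base ≫ PicF.XTproj f U) ((Category.assoc _ _ _).trans hw.symm)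
      let em : e.base ⟶ PicF.XT f Vy := pullback.lift (π₁.base ≫ pullback.fst f h) (𝟙 _) (by
        rw [Category.assoc, pullback.condition]
        exact (Category.id_comp _).symm)
      have hem1 : em ≫ PicF.XTmap f g₁ = π₁.base := by
        apply hom_ext_XT
        · rw [Category.assoc, XTmap_fst]; exact pullback.lift_fst _ _ _
        · rw [Category.assoc, XTmap_proj, ← Category.assoc]
          exact (congrArg (· ≫ g₁.left) (pullback.lift_snd _ _ _)).trans (Category.id_comp _)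
      have hem2 : em ≫ PicF.XTmap f g₂ = π₂.base := by
        apply hom_ext_XT
        · rw [Category.assoc, XTmap_fst]; exact (pullback.lift_fst _ _ _).trans hq
        · rw [Category.assoc, XTmap_proj, ← Category.assoc]
          exact (congrArg (· ≫ g₂.left) (pullback.lift_snd _ _ _)).trans (Category.id_comp _)
      obtain ⟨d, hdb, hd⟩ := ThetaLib.exists_lift_of_fiber (og (Xg f g₁)) π₁ em (by rw [og_base]; exact hem1.symm)
      obtain ⟨c, hc⟩ := exists_isRatio r ha hr g₁ g₂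
      let s := ThetaLib.scal (OV (Xo f Vy)) ((PicF.XTproj f Vy).appTop c)
      have hFk : og (Xg f g₁) ≫ F = s ≫ og (Xg f g₂) ≫ F := by
        refine ThetaLib.hom_ext_of_fiber (cart N f) ?_ ?_
        · rw [CoGrothendieck.categoryStruct_comp_base, CoGrothendieck.categoryStruct_comp_base,
            CoGrothendieck.categoryStruct_comp_base, og_base, og_base, hFb]
          exact (XTmap_fst g₁).trans ((XTmap_fst g₂).symm.trans (Category.id_comp _).symm)
        · have hk : ∀ g : Vy ⟶ U, (og (Xg f g) ≫ F) ≫ cart N f = og (πo f Vy) ≫ og g ≫ μ := fun g =>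
            (Category.assoc _ _ _).trans ((congrArg (og (Xg f g) ≫ ·) hF).trans
              ((Category.assoc _ _ _).symm.trans ((congrArg (· ≫ μ)
                ((og_comp _ _).symm.trans ((congrArg og (Xg_π g)).trans (og_comp _ _)))).trans (Category.assoc _ _ _))))
          have hs : og (πo f Vy) ≫ ThetaLib.scal (OV Vy) c = s ≫ og (πo f Vy) := by
            refine (ThetaLib.comp_scal (og (πo f Vy)) c).trans ?_
            rw [og_base]
            rfl
          calc (og (Xg f g₁) ≫ F) ≫ cart N f = og (πo f Vy) ≫ og g₁ ≫ μ := hk g₁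
            _ = og (πo f Vy) ≫ ThetaLib.scal (OV Vy) c ≫ og g₂ ≫ μ :=
                congrArg (og (πo f Vy) ≫ ·) (og_comp_desc ha hΘ μ hμ g₁ g₂ c hc)
            _ = s ≫ og (πo f Vy) ≫ og g₂ ≫ μ :=
                (Category.assoc _ _ _).symm.trans ((congrArg (· ≫ og g₂ ≫ μ) hs).trans (Category.assoc _ _ _))
            _ = (s ≫ og (Xg f g₂) ≫ F) ≫ cart N f :=
                ((Category.assoc _ _ _).trans (congrArg (s ≫ ·) (hk g₂))).symm
      have hπ₂ : d ≫ s ≫ og (Xg f g₂) = π₂ := by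
        refine ThetaLib.hom_ext_of_fiber F ?_ ?_
        · rw [CoGrothendieck.categoryStruct_comp_base, CoGrothendieck.categoryStruct_comp_base, og_base, hdb]
          exact (congrArg (em ≫ ·) (Category.id_comp _)).trans hem2
        · rw [← hπ, ← hd, Category.assoc, Category.assoc, Category.assoc, hFk]
      rw [← hπ₂, ← hd, Category.assoc, Category.assoc, Category.assoc]
      exact congrArg (d ≫ ·) hc)
  obtain ⟨e⟩ : Nonempty (A ≅ L) := by
    have hiso : IsIso (F ≫ ψ).fiber := by rw [hψ]; exact hri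
    obtain ⟨b, α⟩ := ψ
    obtain rfl : b = 𝟙 _ := hψb
    rw [CoGrothendieck.categoryStruct_comp_fiber] at hiso
    haveI := ((Cat.Hom.toNatIso (ThetaGrp.modPF.mapComp (𝟙 X).op.toLoc F.base.op.toLoc)).symm.app L).isIso_hom
    haveI h₁ := @IsIso.of_isIso_comp_left _ _ _ _ _ F.fiber _ ‹IsIso F.fiber› hiso
    haveI : IsIso ((Scheme.Modules.pullback F.base).map α) :=
      @IsIso.of_isIso_comp_right _ _ _ _ _ _ ((Cat.Hom.toNatIso
        (ThetaGrp.modPF.mapComp (𝟙 X).op.toLoc F.base.op.toLoc)).symm.app L).hom ‹_› h₁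
    haveI := Desc19b.QFpqc.isIso_of_isIso_pullback F.base α
    exact ⟨asIso α ≪≫ (Scheme.Modules.pullbackId _).app L⟩
  exact ⟨N, hN, ⟨e.symm⟩⟩

end Groth.Agent.FppfTriv8
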